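import Mathlib
import Groth.Agent.H23.SmallExt2

/-!
# Small-extension lifting tested on finite type Artinian algebras only

Variant of helper23's `H23/SmallExt`, `H23/SmallExt2` (the proofs of `lift_fg_ft` and
`exists_lift_aux_ft` are theirs, with the finite type hypothesis threaded through): for a maximal
ideal `q` of a finite type algebra `S` over a Noetherian ring `R`, the small extension lifting
property *tested only on Artinian local `R`-algebras of finite type* already implies that `S` is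
smooth at `q`.
-/

set_option autoImplicit false
set_option linter.style.haveILetI false

namespace Groth.Agent.H68.SmExt

universe u

open IsLocalRing Groth.Agent.H23.AdicLocal

variable {R S : Type u} [CommRing R] [CommRing S] [Algebra R S] (q : Ideal S)

/-- The small extension lifting property at `q`, tested only on Artinian local `R`-algebras `B'`
of finite type. -/
def SmallLiftFT : Prop :=
  ∀ (B' B : Type u) [CommRing B'] [CommRing B] [IsLocalRing B'] [IsLocalRing B]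
    [IsArtinianRing B'] [IsArtinianRing B] [Algebra R B'] [Algebra R B] [Algebra.FiniteType R B']
    (π : B' →ₐ[R] B),
    Function.Surjective π →
    (∃ t : B', RingHom.ker π.toRingHom = Ideal.span {t} ∧
      ∀ a ∈ IsLocalRing.maximalIdeal B', a * t = 0) →
    ∀ g : S →ₐ[R] B, (IsLocalRing.maximalIdeal B).comap g = q →
      ∃ g' : S →ₐ[R] B', π.comp g' = g

variable {q}

theorem lift_fg_ft (H : SmallLiftFT (R := R) q) : ∀ (n : ℕ) (E E₀ : Type u) [CommRing E] [CommRing E₀]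
    [IsLocalRing E] [IsLocalRing E₀] [IsArtinianRing E] [IsArtinianRing E₀] [Algebra R E]
    [Algebra R E₀] [Algebra.FiniteType R E] (π : E →ₐ[R] E₀) (_ : Function.Surjective π)
    (t : Fin n → E) (_ : RingHom.ker π.toRingHom = Ideal.span (Set.range t))
    (_ : ∀ a ∈ maximalIdeal E, ∀ i, a * t i = 0)
    (g : S →ₐ[R] E₀) (_ : (maximalIdeal E₀).comap g = q), ∃ g' : S →ₐ[R] E, π.comp g' = g := by
  intro n
  induction n with
  | zero =>
    intro E E₀ _ _ _ _ _ _ _ _ _ π hπ t ht _ g _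
    have hbot : RingHom.ker π.toRingHom = ⊥ := by
      rw [ht]
      have : Set.range t = ∅ := Set.range_eq_empty t
      rw [this, Ideal.span_empty]
    have hinj : Function.Injective π := (RingHom.injective_iff_ker_eq_bot π.toRingHom).mpr hbot
    let e : E ≃ₐ[R] E₀ := AlgEquiv.ofBijective π ⟨hinj, hπ⟩
    refine ⟨(e.symm : E₀ →ₐ[R] E).comp g, ?_⟩
    ext x
    exact e.apply_symm_apply (g x)
  | succ n ih =>
    intro E E₀ _ _ _ _ _ _ _ _ hftE π hπ t ht hkill g hg
    set N' : Ideal E := Ideal.span (Set.range fun i : Fin n => t i.castSucc) with hN'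
    have hN'le : N' ≤ RingHom.ker π.toRingHom := by
      rw [ht]
      apply Ideal.span_mono
      rintro _ ⟨i, rfl⟩
      exact ⟨i.castSucc, rfl⟩
    let π₁ : E →ₐ[R] E ⧸ N' := Ideal.Quotient.mkₐ R N'
    let π₂ : E ⧸ N' →ₐ[R] E₀ := Ideal.Quotient.liftₐ N' π (fun a ha => hN'le ha)
    have hπ₂₁ : ∀ x, π₂ (π₁ x) = π x := fun x => rfl
    have hπ₁ : Function.Surjective π₁ := Ideal.Quotient.mk_surjective
    have hπ₂ : Function.Surjective π₂ := by
      intro y
      obtain ⟨x, rfl⟩ := hπ y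
      exact ⟨π₁ x, rfl⟩
    have hnt : Nontrivial (E ⧸ N') := hπ₂.nontrivial
    have hloc : IsLocalRing (E ⧸ N') :=
      IsLocalRing.of_surjective' (Ideal.Quotient.mk N') Ideal.Quotient.mk_surjective
    have hart : IsArtinianRing (E ⧸ N') :=
      Function.Surjective.isArtinianRing (f := Ideal.Quotient.mk N') Ideal.Quotient.mk_surjective
    have hl₁ : IsLocalHom (π₁ : E →+* E ⧸ N') := IsLocalHom.of_surjective _ hπ₁
    have hl₂ : IsLocalHom (π₂ : E ⧸ N' →+* E₀) := IsLocalHom.of_surjective _ hπ₂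
    have hker₂ : RingHom.ker π₂.toRingHom = Ideal.span {π₁ (t (Fin.last n))} := by
      apply le_antisymm
      · intro y hy
        obtain ⟨x, rfl⟩ := hπ₁ y
        have hx : x ∈ RingHom.ker π.toRingHom := hy
        rw [ht, Ideal.mem_span_range_iff_exists_fun] at hx
        obtain ⟨c, rfl⟩ := hx
        rw [map_sum, Fin.sum_univ_castSucc]
        apply Ideal.add_mem
        · apply Ideal.sum_mem
          intro i _
          have h0 : π₁ (c i.castSucc * t i.castSucc) = 0 := by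
            change Ideal.Quotient.mk N' _ = 0
            rw [Ideal.Quotient.eq_zero_iff_mem]
            exact Ideal.mul_mem_left _ _ (Ideal.subset_span ⟨i, rfl⟩)
          rw [h0]
          exact zero_mem _
        · rw [map_mul]
          exact Ideal.mul_mem_left _ _ (Ideal.subset_span rfl)
      · rw [Ideal.span_le]
        rintro _ rfl
        change π₂ (π₁ (t (Fin.last n))) = 0
        rw [hπ₂₁]
        have : t (Fin.last n) ∈ RingHom.ker π.toRingHom := by
          rw [ht]; exact Ideal.subset_span ⟨_, rfl⟩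
        exact this
    have hkill₂ : ∀ a ∈ maximalIdeal (E ⧸ N'), a * π₁ (t (Fin.last n)) = 0 := by
      intro a ha
      obtain ⟨a₀, rfl⟩ := hπ₁ a
      have ha₀ : a₀ ∈ maximalIdeal E := by
        rw [mem_maximalIdeal, mem_nonunits_iff] at ha ⊢
        exact fun hu => ha (hu.map π₁)
      rw [← map_mul, hkill a₀ ha₀, map_zero]
    have hftq : Algebra.FiniteType R (E ⧸ N') :=
      Algebra.FiniteType.of_surjective (Ideal.Quotient.mkₐ R N') Ideal.Quotient.mk_surjective
    obtain ⟨g₁, hg₁⟩ := H (E ⧸ N') E₀ π₂ hπ₂ ⟨_, hker₂, hkill₂⟩ g hg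
    have hg₁x : ∀ x, π₂ (g₁ x) = g x := fun x => AlgHom.congr_fun hg₁ x
    have hg₁q : (maximalIdeal (E ⧸ N')).comap g₁ = q := by
      rw [← hg]
      ext x
      rw [Ideal.mem_comap, Ideal.mem_comap, ← hg₁x]
      rw [mem_maximalIdeal, mem_maximalIdeal, mem_nonunits_iff, mem_nonunits_iff]
      constructor
      · exact fun h hu => h (isUnit_of_map_unit (π₂ : E ⧸ N' →+* E₀) _ hu)
      · exact fun h hu => h (hu.map π₂)
    have hker₁ : RingHom.ker π₁.toRingHom = Ideal.span (Set.range fun i : Fin n => t i.castSucc) :=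
      Ideal.Quotient.mkₐ_ker R N'
    obtain ⟨g', hg'⟩ := ih E (E ⧸ N') π₁ hπ₁ (fun i => t i.castSucc) hker₁
      (fun a ha i => hkill a ha i.castSucc) g₁ hg₁q
    refine ⟨g', ?_⟩
    ext x
    have h1 : π₁ (g' x) = g₁ x := AlgHom.congr_fun hg' x
    change π (g' x) = g x
    rw [← hπ₂₁, h1, hg₁x]


section FT

/-- For a maximal ideal `Q` of `P`, every quotient of `P_Q` by an ideal containing a power of the
maximal ideal is a quotient of `P`. -/
theorem surjective_to_quot {P : Type u} [CommRing P] (Q : Ideal P) [hQ : Q.IsMaximal]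
    (𝔞 : Ideal (Localization.AtPrime Q)) (k : ℕ)
    (h : maximalIdeal (Localization.AtPrime Q) ^ k ≤ 𝔞) :
    Function.Surjective ((Ideal.Quotient.mk 𝔞).comp (algebraMap P (Localization.AtPrime Q))) := by
  intro y
  obtain ⟨x, rfl⟩ := Ideal.Quotient.mk_surjective y
  obtain ⟨p, s, rfl⟩ := IsLocalization.exists_mk'_eq Q.primeCompl x
  obtain ⟨t, u, hu, htu⟩ := hQ.exists_inv s.2
  set φ : P →+* Localization.AtPrime Q ⧸ 𝔞 :=
    (Ideal.Quotient.mk 𝔞).comp (algebraMap P (Localization.AtPrime Q)) with hφ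
  have huk : φ u ^ k = 0 := by
    rw [← map_pow, hφ, RingHom.comp_apply, Ideal.Quotient.eq_zero_iff_mem, map_pow]
    apply h
    apply Ideal.pow_mem_pow
    exact (IsLocalization.AtPrime.to_map_mem_maximal_iff (Localization.AtPrime Q) Q u).mpr hu
  have hs : φ s * φ (t * ∑ i ∈ Finset.range k, u ^ i) = 1 := by
    have h1 : φ t * φ s = 1 - φ u := by
      rw [← map_mul, eq_sub_iff_add_eq, ← map_add, htu, map_one]
    rw [map_mul, ← mul_assoc, mul_comm (φ s), h1, map_sum]
    simp only [map_pow]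
    rw [mul_comm, geom_sum_mul_neg, huk, sub_zero]
  refine ⟨p * (t * ∑ i ∈ Finset.range k, u ^ i), ?_⟩
  have hx : Ideal.Quotient.mk 𝔞 (IsLocalization.mk' (Localization.AtPrime Q) p s) * φ s = φ p := by
    rw [hφ, RingHom.comp_apply, RingHom.comp_apply, ← map_mul, IsLocalization.mk'_spec]
  calc φ (p * (t * ∑ i ∈ Finset.range k, u ^ i))
      = φ p * φ (t * ∑ i ∈ Finset.range k, u ^ i) := map_mul _ _ _
    _ = Ideal.Quotient.mk 𝔞 (IsLocalization.mk' (Localization.AtPrime Q) p s) *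
          (φ s * φ (t * ∑ i ∈ Finset.range k, u ^ i)) := by rw [← hx, mul_assoc]
    _ = _ := by rw [hs, mul_one]

theorem finiteType_quot {R P : Type u} [CommRing R] [CommRing P] [Algebra R P]
    [Algebra.FiniteType R P] (Q : Ideal P) [hQ : Q.IsMaximal]
    (𝔞 : Ideal (Localization.AtPrime Q)) (k : ℕ)
    (h : maximalIdeal (Localization.AtPrime Q) ^ k ≤ 𝔞) :
    Algebra.FiniteType R (Localization.AtPrime Q ⧸ 𝔞) := by
  let ψ : P →ₐ[R] Localization.AtPrime Q ⧸ 𝔞 :=
    (Ideal.Quotient.mkₐ R 𝔞).comp (IsScalarTower.toAlgHom R P (Localization.AtPrime Q))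
  exact Algebra.FiniteType.of_surjective ψ (surjective_to_quot Q 𝔞 k h)

end FT

/-- The lifting problems needed by `formallySmooth_of_lifts_local` are solvable under the small
extension lifting property. -/
theorem exists_lift_aux_ft {R S B₀ : Type u} [CommRing R] [CommRing S] [Algebra R S] [CommRing B₀]
    [Algebra R B₀] [IsLocalRing B₀] [IsNoetherianRing B₀]
    (q : Ideal S) [q.IsPrime] (H : SmallLiftFT (R := R) q)
    (hft : ∀ (𝔞 : Ideal B₀) (k : ℕ), maximalIdeal B₀ ^ k ≤ 𝔞 → Algebra.FiniteType R (B₀ ⧸ 𝔞))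
    (J : Ideal B₀) [IsLocalRing (B₀ ⧸ J)] (e : (B₀ ⧸ J) ≃ₐ[R] Localization.AtPrime q) (k₁ : ℕ) :
    ∃ χ : (B₀ ⧸ J) →ₐ[R]
        B₀ ⧸ ((RingHom.ker (algebraMap B₀ (B₀ ⧸ J))) ^ 2 ⊔
          (maximalIdeal (B₀ ⧸ J)).comap (Ideal.Quotient.mk J) *
            RingHom.ker (algebraMap B₀ (B₀ ⧸ J)) ⊔
            ((maximalIdeal (B₀ ⧸ J)).comap (Ideal.Quotient.mk J)) ^ (k₁ + 1)),
      ∀ x : B₀, χ (Ideal.Quotient.mk J x) - Ideal.Quotient.mk _ x ∈
        (RingHom.ker (algebraMap B₀ (B₀ ⧸ J))).map (Ideal.Quotient.mk _) := by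
  classical
  have h𝔍 : RingHom.ker (algebraMap B₀ (B₀ ⧸ J)) = J := by
    rw [Ideal.Quotient.algebraMap_eq, Ideal.mk_ker]
  set 𝔍 : Ideal B₀ := RingHom.ker (algebraMap B₀ (B₀ ⧸ J)) with h𝔍def
  set 𝔪' : Ideal B₀ := (maximalIdeal (B₀ ⧸ J)).comap (Ideal.Quotient.mk J) with h𝔪'
  have h𝔪'max : 𝔪'.IsMaximal :=
    Ideal.comap_isMaximal_of_surjective _ Ideal.Quotient.mk_surjective
  have h𝔪'eq : 𝔪' = maximalIdeal B₀ := IsLocalRing.eq_maximalIdeal h𝔪'max
  have h𝔍le : 𝔍 ≤ 𝔪' := by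
    intro x hx
    rw [h𝔪', Ideal.mem_comap]
    have : Ideal.Quotient.mk J x = 0 := hx
    rw [this]; exact zero_mem _
  set 𝔞 : Ideal B₀ := 𝔍 ^ 2 ⊔ 𝔪' * 𝔍 ⊔ 𝔪' ^ (k₁ + 1) with h𝔞
  have h𝔞le : 𝔞 ≤ 𝔪' := by
    refine sup_le (sup_le ?_ Ideal.mul_le_left) ?_
    · exact (Ideal.pow_le_self (by norm_num)).trans h𝔍le
    · exact Ideal.pow_le_self (by norm_num)
  have h𝔞ne : 𝔞 ≠ ⊤ := fun h => h𝔪'max.ne_top (top_le_iff.mp (h ▸ h𝔞le))
  -- the ring `E`
  have hEnt : Nontrivial (B₀ ⧸ 𝔞) := Ideal.Quotient.nontrivial_iff.mpr h𝔞ne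
  have hEloc : IsLocalRing (B₀ ⧸ 𝔞) :=
    IsLocalRing.of_surjective' (Ideal.Quotient.mk 𝔞) Ideal.Quotient.mk_surjective
  have hmE : maximalIdeal (B₀ ⧸ 𝔞) = 𝔪'.map (Ideal.Quotient.mk 𝔞) := by
    rw [h𝔪'eq]
    exact (IsLocalRing.map_maximalIdeal_of_surjective _ Ideal.Quotient.mk_surjective).symm
  have hEart : IsArtinianRing (B₀ ⧸ 𝔞) := by
    rw [isArtinianRing_iff_isNilpotent_maximalIdeal]
    refine ⟨k₁ + 1, ?_⟩
    rw [hmE, ← Ideal.map_pow, Ideal.zero_eq_bot, eq_bot_iff, Ideal.map_le_iff_le_comap]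
    intro x hx
    rw [Ideal.mem_comap, Ideal.mem_bot, Ideal.Quotient.eq_zero_iff_mem]
    exact Ideal.mem_sup_right hx
  set K : Ideal (B₀ ⧸ 𝔞) := 𝔍.map (Ideal.Quotient.mk 𝔞) with hK
  have hKle : K ≤ maximalIdeal (B₀ ⧸ 𝔞) := by
    rw [hmE]; exact Ideal.map_mono h𝔍le
  have hKne : K ≠ ⊤ := fun h =>
    (IsLocalRing.maximalIdeal.isMaximal (B₀ ⧸ 𝔞)).ne_top (top_le_iff.mp (h ▸ hKle))
  have hE₀nt : Nontrivial ((B₀ ⧸ 𝔞) ⧸ K) := Ideal.Quotient.nontrivial_iff.mpr hKne
  have hE₀loc : IsLocalRing ((B₀ ⧸ 𝔞) ⧸ K) :=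
    IsLocalRing.of_surjective' (Ideal.Quotient.mk K) Ideal.Quotient.mk_surjective
  have hE₀art : IsArtinianRing ((B₀ ⧸ 𝔞) ⧸ K) :=
    Function.Surjective.isArtinianRing (f := Ideal.Quotient.mk K) Ideal.Quotient.mk_surjective
  let π : (B₀ ⧸ 𝔞) →ₐ[R] (B₀ ⧸ 𝔞) ⧸ K := Ideal.Quotient.mkₐ R K
  have hπ : Function.Surjective π := Ideal.Quotient.mk_surjective
  have hπloc : IsLocalHom (π : (B₀ ⧸ 𝔞) →+* (B₀ ⧸ 𝔞) ⧸ K) := IsLocalHom.of_surjective _ hπ
  obtain ⟨n, t, ht⟩ := Submodule.fg_iff_exists_fin_generating_family.mp (IsNoetherian.noetherian K)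
  have hkerπ : RingHom.ker π.toRingHom = Ideal.span (Set.range t) := by
    rw [show Ideal.span (Set.range t) = K from ht]
    exact Ideal.Quotient.mkₐ_ker R K
  have hkillK : ∀ a ∈ maximalIdeal (B₀ ⧸ 𝔞), ∀ y ∈ K, a * y = 0 := by
    intro a ha y hy
    rw [hmE, Ideal.mem_map_iff_of_surjective _ Ideal.Quotient.mk_surjective] at ha
    obtain ⟨a₀, ha₀, rfl⟩ := ha
    rw [hK, Ideal.mem_map_iff_of_surjective _ Ideal.Quotient.mk_surjective] at hy
    obtain ⟨y₀, hy₀, rfl⟩ := hy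
    rw [← map_mul, Ideal.Quotient.eq_zero_iff_mem]
    exact Ideal.mem_sup_left (Ideal.mem_sup_right (Ideal.mul_mem_mul ha₀ hy₀))
  have hkill : ∀ a ∈ maximalIdeal (B₀ ⧸ 𝔞), ∀ i, a * t i = 0 := by
    intro a ha i
    apply hkillK a ha
    rw [← ht]
    exact Submodule.subset_span ⟨i, rfl⟩
  -- the map to lift
  have hJK : ∀ x ∈ J, ((Ideal.Quotient.mkₐ R K).comp (Ideal.Quotient.mkₐ R 𝔞)) x = 0 := by
    intro x hx
    rw [AlgHom.comp_apply, Ideal.Quotient.mkₐ_eq_mk, Ideal.Quotient.mkₐ_eq_mk,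
      Ideal.Quotient.eq_zero_iff_mem]
    exact Ideal.mem_map_of_mem _ (h𝔍 ▸ hx)
  let ψ : (B₀ ⧸ J) →ₐ[R] (B₀ ⧸ 𝔞) ⧸ K :=
    Ideal.Quotient.liftₐ J ((Ideal.Quotient.mkₐ R K).comp (Ideal.Quotient.mkₐ R 𝔞)) hJK
  have hψmk : ∀ x : B₀, ψ (Ideal.Quotient.mk J x) =
      Ideal.Quotient.mk K (Ideal.Quotient.mk 𝔞 x) := fun x => rfl
  have hψsurj : Function.Surjective ψ := by
    intro y
    obtain ⟨y₁, rfl⟩ := Ideal.Quotient.mk_surjective y
    obtain ⟨y₀, rfl⟩ := Ideal.Quotient.mk_surjective y₁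
    exact ⟨Ideal.Quotient.mk J y₀, hψmk y₀⟩
  let lam : Localization.AtPrime q →ₐ[R] (B₀ ⧸ 𝔞) ⧸ K := ψ.comp (e.symm : _ →ₐ[R] _)
  have hlamsurj : Function.Surjective lam := hψsurj.comp e.symm.surjective
  have hlamloc : IsLocalHom (lam : Localization.AtPrime q →+* (B₀ ⧸ 𝔞) ⧸ K) :=
    IsLocalHom.of_surjective _ hlamsurj
  let g₀ : S →ₐ[R] (B₀ ⧸ 𝔞) ⧸ K := lam.comp (IsScalarTower.toAlgHom R S (Localization.AtPrime q))
  have hg₀x : ∀ s, g₀ s = lam (algebraMap S (Localization.AtPrime q) s) := fun s => rfl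
  have hg₀ : (maximalIdeal ((B₀ ⧸ 𝔞) ⧸ K)).comap g₀ = q := by
    ext s
    rw [Ideal.mem_comap, hg₀x, ← IsLocalization.AtPrime.to_map_mem_maximal_iff
      (Localization.AtPrime q) q s, mem_maximalIdeal, mem_maximalIdeal, mem_nonunits_iff,
      mem_nonunits_iff]
    constructor
    · exact fun h hu => h (hu.map lam)
    · exact fun h hu => h (hlamloc.map_nonunit (algebraMap S (Localization.AtPrime q) s) hu)
  have hftE : Algebra.FiniteType R (B₀ ⧸ 𝔞) :=
    hft 𝔞 (k₁ + 1) (by rw [← h𝔪'eq]; exact le_sup_right)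
  obtain ⟨g', hg'⟩ := lift_fg_ft H n (B₀ ⧸ 𝔞) ((B₀ ⧸ 𝔞) ⧸ K) π hπ t hkerπ hkill g₀ hg₀
  have hg'x : ∀ s, π (g' s) = g₀ s := fun s => AlgHom.congr_fun hg' s
  have hunit : ∀ s : q.primeCompl, IsUnit ((g' : S →+* B₀ ⧸ 𝔞) s) := by
    intro s
    apply hπloc.map_nonunit (g' s)
    change IsUnit (π (g' s))
    rw [hg'x, hg₀x]
    exact (IsLocalization.map_units (Localization.AtPrime q) s).map lam
  let χ₀ : Localization.AtPrime q →+* B₀ ⧸ 𝔞 :=
    IsLocalization.lift (M := q.primeCompl) (g := (g' : S →+* B₀ ⧸ 𝔞)) hunit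
  have hχ₀ : ∀ s, χ₀ (algebraMap S (Localization.AtPrime q) s) = g' s :=
    fun s => IsLocalization.lift_eq hunit s
  let χ' : Localization.AtPrime q →ₐ[R] B₀ ⧸ 𝔞 :=
    { χ₀ with
      commutes' := fun r => by
        change χ₀ (algebraMap R _ r) = _
        rw [IsScalarTower.algebraMap_apply R S (Localization.AtPrime q), hχ₀]
        exact g'.commutes r }
  have hχ'lam : ∀ c, π (χ' c) = lam c := by
    intro c
    have h1 : (π : (B₀ ⧸ 𝔞) →+* (B₀ ⧸ 𝔞) ⧸ K).comp χ₀ = (lam : Localization.AtPrime q →+* _) := by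
      apply IsLocalization.ringHom_ext q.primeCompl
      ext s
      simp only [RingHom.comp_apply]
      rw [hχ₀]
      exact (hg'x s).trans (hg₀x s)
    exact RingHom.congr_fun h1 c
  refine ⟨χ'.comp (e : (B₀ ⧸ J) →ₐ[R] _), ?_⟩
  intro x
  rw [← Ideal.Quotient.eq]
  change π (χ' (e (Ideal.Quotient.mk J x))) = _
  rw [hχ'lam]
  change ψ (e.symm (e (Ideal.Quotient.mk J x))) = _
  rw [e.symm_apply_apply, hψmk]

/-- Small extension lifting at a maximal ideal `q`, tested on finite type Artinian local algebras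
only, implies formal smoothness of the local ring at `q`. -/
theorem formallySmooth_atPrime_of_smallLiftFT {R P S : Type u} [CommRing R] [CommRing P] [CommRing S]
    [Algebra R P] [Algebra P S] [Algebra R S] [IsScalarTower R P S] [IsNoetherianRing P]
    [Algebra.FiniteType R P]
    [Algebra.FormallySmooth R P] (hsurj : Function.Surjective (algebraMap P S)) (q : Ideal S)
    [hq : q.IsMaximal] (H : SmallLiftFT (R := R) q) :
    Algebra.FormallySmooth R (Localization.AtPrime q) := by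
  classical
  have hQmax : (q.comap (algebraMap P S)).IsMaximal :=
    Ideal.comap_isMaximal_of_surjective _ hsurj
  have : Algebra.FormallySmooth P (Localization.AtPrime (q.comap (algebraMap P S))) :=
    Algebra.FormallySmooth.of_isLocalization (q.comap (algebraMap P S)).primeCompl
  have : Algebra.FormallySmooth R (Localization.AtPrime (q.comap (algebraMap P S))) :=
    Algebra.FormallySmooth.comp R P _
  let ν₀ : Localization.AtPrime (q.comap (algebraMap P S)) →+* Localization.AtPrime q :=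
    Localization.localRingHom (q.comap (algebraMap P S)) q (algebraMap P S) rfl
  have hν₀ : Function.Surjective ν₀ := RingHom.surjective_localRingHom_of_surjective _ hsurj q
  let ν : Localization.AtPrime (q.comap (algebraMap P S)) →ₐ[R] Localization.AtPrime q :=
    { ν₀ with
      commutes' := fun a => by
        change ν₀ (algebraMap R _ a) = _
        rw [IsScalarTower.algebraMap_apply R P (Localization.AtPrime (q.comap (algebraMap P S))),
          Localization.localRingHom_to_map, ← IsScalarTower.algebraMap_apply,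
          ← IsScalarTower.algebraMap_apply] }
  have hν : Function.Surjective ν := hν₀
  let e : (Localization.AtPrime (q.comap (algebraMap P S)) ⧸ RingHom.ker ν) ≃ₐ[R]
      Localization.AtPrime q := Ideal.quotientKerAlgEquivOfSurjective hν
  have hloc : IsLocalRing (Localization.AtPrime (q.comap (algebraMap P S)) ⧸ RingHom.ker ν) :=
    e.symm.toRingEquiv.isLocalRing
  have he : ∀ x, e (Ideal.Quotient.mk _ x) = ν x := fun x => rfl
  have key : Algebra.FormallySmooth R
      (Localization.AtPrime (q.comap (algebraMap P S)) ⧸ RingHom.ker ν) := by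
    apply formallySmooth_of_lifts_local
    intro k₁
    exact exists_lift_aux_ft q H
      (fun 𝔞 k h => finiteType_quot (q.comap (algebraMap P S)) 𝔞 k h) (RingHom.ker ν) e k₁
  exact Algebra.FormallySmooth.of_equiv e

end Groth.Agent.H68.SmExt
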