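import Mathlib

/-!
# Scheme-level plumbing for lifting problems against spectra of local rings
-/

set_option autoImplicit false

namespace Groth.Agent.H68.SmExt

open AlgebraicGeometry CategoryTheory IsLocalRing

universe u

/-- A morphism from the spectrum of a local ring factors through any affine open containing the
image of the closed point. -/
theorem exists_factor_fromSpec {X : Scheme.{u}} (B : Type u) [CommRing B] [IsLocalRing B]
    (α : Spec (CommRingCat.of B) ⟶ X) {V : X.Opens} (hV : IsAffineOpen V)
    (hx : α (closedPoint B) ∈ V) :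
    ∃ a : Γ(X, V) ⟶ CommRingCat.of B, α = Spec.map a ≫ hV.fromSpec := by
  have hr : Set.range α ⊆ Set.range hV.fromSpec := by
    rw [hV.range_fromSpec]
    rintro _ ⟨y, rfl⟩
    exact ((specializes_closedPoint (R := B) y).map α.continuous).mem_open V.2 hx
  refine ⟨Spec.preimage (IsOpenImmersion.lift hV.fromSpec α hr), ?_⟩
  rw [Spec.map_preimage, IsOpenImmersion.lift_fac]

/-- An open subset of a prime spectrum containing all maximal ideals is everything. -/
theorem eq_univ_of_isOpen_of_maximal {C : Type u} [CommRing C] (s : Set (PrimeSpectrum C))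
    (hs : IsOpen s) (h : ∀ p : PrimeSpectrum C, p.asIdeal.IsMaximal → p ∈ s) : s = Set.univ := by
  rw [Set.eq_univ_iff_forall]
  intro p
  by_contra hp
  obtain ⟨m, hm, hpm⟩ := Ideal.exists_le_maximal p.asIdeal p.2.ne_top
  have hspec : p ⤳ (⟨m, hm.isPrime⟩ : PrimeSpectrum C) :=
    (PrimeSpectrum.le_iff_specializes _ _).mp hpm
  have : (⟨m, hm.isPrime⟩ : PrimeSpectrum C) ∈ sᶜ := hspec.mem_closed hs.isClosed_compl hp
  exact this (h _ hm)

end Groth.Agent.H68.SmExt
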