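import Mathlib
import Groth.Agent.H68.SmExt.Core
import Groth.Agent.H68.SmExt.Sch

/-!
# Smoothness and lifting along small extensions of Artinian local rings (scheme level)
-/

set_option autoImplicit false
set_option linter.style.haveILetI false

namespace Groth.Agent.H68.SmExt

open AlgebraicGeometry CategoryTheory IsLocalRing

universe u

/-- Smooth morphisms lift along small extensions. -/
theorem forward {X S : Scheme.{u}} (f : X ⟶ S) [Smooth f]
    (B B' : Type u) [CommRing B] [CommRing B'] [IsLocalRing B] [IsLocalRing B']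
    (φ : B' →+* B) (ε : B') (hφ : Function.Surjective φ) (hker : RingHom.ker φ = Ideal.span {ε})
    (hε : ∀ m ∈ maximalIdeal B', ε * m = 0)
    (α : Spec (CommRingCat.of B) ⟶ X) (β : Spec (CommRingCat.of B') ⟶ S)
    (hcomm : Spec.map (CommRingCat.ofHom φ) ≫ β = α ≫ f) :
    ∃ γ : Spec (CommRingCat.of B') ⟶ X,
      Spec.map (CommRingCat.ofHom φ) ≫ γ = α ∧ γ ≫ f = β := by
  have hloc : IsLocalHom φ := IsLocalHom.of_surjective φ hφ
  obtain ⟨_, ⟨U, hU, rfl⟩, hxU, -⟩ := S.isBasis_affineOpens.exists_subset_of_mem_open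
    (Set.mem_univ (f (α (closedPoint B)))) isOpen_univ
  obtain ⟨_, ⟨V, hV, rfl⟩, hxV, hVU⟩ := X.isBasis_affineOpens.exists_subset_of_mem_open
    hxU (U.2.preimage f.continuous)
  obtain ⟨a, ha⟩ := exists_factor_fromSpec B α hV hxV
  have hβU : β (closedPoint B') ∈ U := by
    have h1 : (Spec.map (CommRingCat.ofHom φ)) (closedPoint B) = closedPoint B' :=
      IsLocalRing.comap_closedPoint φ
    rw [← h1, ← Scheme.Hom.comp_apply, hcomm, Scheme.Hom.comp_apply]
    exact hxU
  obtain ⟨b, hb⟩ := exists_factor_fromSpec B' β hU hβU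
  have hring : b ≫ CommRingCat.ofHom φ = f.appLE U V hVU ≫ a := by
    apply Spec.map_injective
    rw [← cancel_mono hU.fromSpec, Spec.map_comp, Spec.map_comp, Category.assoc, Category.assoc,
      ← hb, hcomm, ha, IsAffineOpen.SpecMap_appLE_fromSpec f hU hV hVU, Category.assoc]
  letI algAC : Algebra Γ(S, U) Γ(X, V) := (f.appLE U V hVU).hom.toAlgebra
  letI algAB' : Algebra Γ(S, U) B' := b.hom.toAlgebra
  letI algAB : Algebra Γ(S, U) B := (φ.comp b.hom).toAlgebra
  have hsmooth : Algebra.Smooth Γ(S, U) Γ(X, V) := f.smooth_appLE hU hV hVU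
  let π : B' →ₐ[Γ(S, U)] B := { φ with commutes' := fun r => rfl }
  let g : Γ(X, V) →ₐ[Γ(S, U)] B :=
    { a.hom with
      commutes' := fun r => by
        have := congr($(hring).hom r)
        exact this.symm }
  have hεm : ε ∈ maximalIdeal B' := by
    by_contra hnm
    have hu : IsUnit ε := by
      rwa [mem_maximalIdeal, mem_nonunits_iff, not_not] at hnm
    have h1 : (1 : B') ∈ RingHom.ker φ := by
      rw [hker, Ideal.span_singleton_eq_top.mpr hu]; trivial
    have h2 : φ 1 = 0 := h1
    rw [map_one] at h2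
    exact one_ne_zero h2
  have hnil : IsNilpotent (RingHom.ker (π : B' →+* B)) := by
    refine ⟨2, ?_⟩
    change RingHom.ker φ ^ 2 = ⊥
    rw [hker, pow_two, Ideal.span_singleton_mul_span_singleton, hε ε hεm]
    exact Ideal.span_singleton_eq_bot.mpr rfl
  let g' : Γ(X, V) →ₐ[Γ(S, U)] B' := Algebra.FormallySmooth.liftOfSurjective g π hφ hnil
  have hg' : ∀ y, φ (g' y) = a.hom y :=
    fun y => Algebra.FormallySmooth.liftOfSurjective_apply g π hφ hnil y
  refine ⟨Spec.map (CommRingCat.ofHom g'.toRingHom) ≫ hV.fromSpec, ?_, ?_⟩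
  · rw [ha, ← Category.assoc, ← Spec.map_comp]
    congr 2
    ext y
    exact hg' y
  · rw [Category.assoc, ← IsAffineOpen.SpecMap_appLE_fromSpec f hU hV hVU, ← Category.assoc,
      ← Spec.map_comp, hb]
    congr 2
    ext r
    exact g'.commutes r

/-- The lifting property along small extensions, with test morphisms to the base locally of
finite type, implies smoothness (locally Noetherian base). -/
theorem backward {X S : Scheme.{u}} (f : X ⟶ S) [IsLocallyNoetherian S] [LocallyOfFiniteType f]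
    (H : ∀ (B B' : Type u) [CommRing B] [CommRing B'] [IsArtinianRing B] [IsArtinianRing B']
      [IsLocalRing B] [IsLocalRing B']
      (φ : B' →+* B) (ε : B'), Function.Surjective φ → RingHom.ker φ = Ideal.span {ε} →
      (∀ m ∈ IsLocalRing.maximalIdeal B', ε * m = 0) →
      ∀ (α : Spec (CommRingCat.of B) ⟶ X) (β : Spec (CommRingCat.of B') ⟶ S),
        LocallyOfFiniteType β →
        Spec.map (CommRingCat.ofHom φ) ≫ β = α ≫ f →
        ∃ γ : Spec (CommRingCat.of B') ⟶ X,
          Spec.map (CommRingCat.ofHom φ) ≫ γ = α ∧ γ ≫ f = β) :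
    Smooth f := by
  refine ⟨fun {U} hU {V} hV hVU => ?_⟩
  have hnoeth : IsNoetherianRing Γ(S, U) := IsLocallyNoetherian.component_noetherian ⟨U, hU⟩
  have hft0 := f.finiteType_appLE hU hV hVU
  letI algAC : Algebra Γ(S, U) Γ(X, V) := (f.appLE U V hVU).hom.toAlgebra
  have hft : Algebra.FiniteType Γ(S, U) Γ(X, V) := hft0
  have hfp : Algebra.FinitePresentation Γ(S, U) Γ(X, V) :=
    Algebra.FinitePresentation.of_finiteType.mp hft
  change Algebra.Smooth Γ(S, U) Γ(X, V)
  refine ⟨?_, hfp⟩
  rw [← Algebra.smoothLocus_eq_univ_iff]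
  apply eq_univ_of_isOpen_of_maximal _ Algebra.isOpen_smoothLocus
  intro p hp
  change Algebra.FormallySmooth Γ(S, U) (Localization.AtPrime p.asIdeal)
  obtain ⟨n, ψ, hψ⟩ := Algebra.FiniteType.iff_quotient_mvPolynomial''.mp hft
  letI algPS : Algebra (MvPolynomial (Fin n) Γ(S, U)) Γ(X, V) := ψ.toRingHom.toAlgebra
  have tow : IsScalarTower Γ(S, U) (MvPolynomial (Fin n) Γ(S, U)) Γ(X, V) :=
    IsScalarTower.of_algebraMap_eq (fun a => (ψ.commutes a).symm)
  have hsurj : Function.Surjective (algebraMap (MvPolynomial (Fin n) Γ(S, U)) Γ(X, V)) := hψ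
  haveI := hp
  apply formallySmooth_atPrime_of_smallLiftFT (P := MvPolynomial (Fin n) Γ(S, U)) hsurj p.asIdeal
  -- the finite type small lifting property
  intro B' B _ _ _ _ _ _ _ _ hftB' π hπ ht g hg
  obtain ⟨t, hker, hkill⟩ := ht
  let α : Spec (CommRingCat.of B) ⟶ X :=
    Spec.map (CommRingCat.ofHom g.toRingHom) ≫ hV.fromSpec
  let β : Spec (CommRingCat.of B') ⟶ S :=
    Spec.map (CommRingCat.ofHom (algebraMap Γ(S, U) B')) ≫ hU.fromSpec
  have hβ : LocallyOfFiniteType β := by
    have h1 : LocallyOfFiniteType (Spec.map (CommRingCat.ofHom (algebraMap Γ(S, U) B'))) := by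
      rw [HasRingHomProperty.Spec_iff (P := @LocallyOfFiniteType)]
      exact (RingHom.finiteType_algebraMap).mpr hftB'
    infer_instance
  have hcomm : Spec.map (CommRingCat.ofHom (π : B' →+* B)) ≫ β = α ≫ f := by
    simp only [α, β, Category.assoc]
    rw [← IsAffineOpen.SpecMap_appLE_fromSpec f hU hV hVU, ← Category.assoc, ← Category.assoc,
      ← Spec.map_comp, ← Spec.map_comp]
    congr 2
    ext r
    change π (algebraMap Γ(S, U) B' r) = g (algebraMap Γ(S, U) Γ(X, V) r)
    rw [π.commutes, g.commutes]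
  obtain ⟨γ, hγ1, hγ2⟩ := H B B' (π : B' →+* B) t hπ hker
    (fun m hm => by rw [mul_comm]; exact hkill m hm) α β hβ hcomm
  have hloc : IsLocalHom (π : B' →+* B) := IsLocalHom.of_surjective _ hπ
  have hγV : γ (closedPoint B') ∈ V := by
    have h1 : (Spec.map (CommRingCat.ofHom (π : B' →+* B))) (closedPoint B) = closedPoint B' :=
      IsLocalRing.comap_closedPoint (π : B' →+* B)
    rw [← h1, ← Scheme.Hom.comp_apply, hγ1]
    simp only [α, Scheme.Hom.comp_apply]
    rw [← Scheme.Hom.mem_preimage]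
    have := hV.fromSpec_preimage_self
    rw [this]
    trivial
  obtain ⟨c, hc⟩ := exists_factor_fromSpec B' γ hV hγV
  have hc1 : c ≫ CommRingCat.ofHom (π : B' →+* B) = CommRingCat.ofHom g.toRingHom := by
    apply Spec.map_injective
    rw [← cancel_mono hV.fromSpec, Spec.map_comp, Category.assoc, ← hc, hγ1]
  have hc2 : f.appLE U V hVU ≫ c = CommRingCat.ofHom (algebraMap Γ(S, U) B') := by
    apply Spec.map_injective
    rw [← cancel_mono hU.fromSpec, Spec.map_comp, Category.assoc,
      IsAffineOpen.SpecMap_appLE_fromSpec f hU hV hVU, ← Category.assoc, ← hc, hγ2]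
  refine ⟨{ c.hom with commutes' := fun r => congr($(hc2).hom r) }, ?_⟩
  ext y
  exact congr($(hc1).hom y)

end Groth.Agent.H68.SmExt
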